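import Cfsg.Agent.H216.Pi.Lie
import Cfsg.Agent.OddHalf.Known
import Cfsg.Agent.S0000

/-!
# S4324: assembly of the rows (helper809)

* `RowP.tr` : `RowP` is invariant under isomorphisms;
* `SMHyp`, `CycHyp` : the statements of PI-G (`sm_of_lie`) and PI-C3 (`false_of_cyclic`) in `Type`;
* `rowP_of_parts` : the row of a group of Lie type from `SM`, the cyclic theorem, `NR` and `CY`;
* `Rows` : one field per family and per sporadic group;
* `rowP_of_known_of` : `RowP K` for all nonabelian simple `K`, by the classification.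
-/

set_option autoImplicit false

namespace Cfsg.Agent.H809.Pi

open Subgroup Cfsg Cfsg.Agent.H216.Pi

universe u v

/-- `RowP` is invariant under isomorphisms -/
theorem RowP.tr {K : Type u} {L : Type v} [Group K] [Group L] [Finite K] [Finite L] (e : K ≃* L) (h : RowP K) :
    RowP L := by
  intro s r x hs hr hr3 hrs hrK hsK hx hxs hxr hPC hFC
  have hcard : Nat.card L = Nat.card K := (Nat.card_congr e.toEquiv).symm
  have ho : orderOf (H459.Rad.tr e.symm x) = orderOf x := H459.Rad.orderOf_tr e.symm x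
  rw [hcard] at hrK hsK
  exact h s r (H459.Rad.tr e.symm x) hs hr hr3 hrs hrK hsK (by rw [ho]; exact hx) (by rw [ho]; exact hxs)
    (by rw [ho]; exact hxr) (hPC.tr e.symm) (hFC.tr e.symm)

/-- the cyclic theorem (`false_of_cyclic`) for `K` -/
def Cyc (K : Type u) [Group K] : Prop :=
  ∀ (s m : ℕ), s.Prime → s ∣ Nat.card K → (∀ P : Sylow s K, IsCyclic (P : Subgroup K)) → ∀ x : MulAut K,
    (orderOf x).Prime → orderOf x ≠ s → s - 1 ≤ m → FC s m x → False

/-- **The row of a group of Lie type.** -/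
theorem rowP_of_parts {K : Type u} [Group K] [Finite K] {t : ℕ} (hSM : SM t K) (hcyc : Cyc K) (hN : NR t K)
    (hC : CY t K) : RowP K := by
  intro s r x hs hr hr3 hrs hrK hsK hx hxs hxr hPC hFC
  have hsF : Fact s.Prime := ⟨hs⟩
  by_cases hst : s = t
  · subst hst
    exact hSM x hx hxs hFC.eleven
  by_cases hP : ∀ P : Sylow s K, IsCyclic (P : Subgroup K)
  · rcases hrK with h | h
    · subst h
      exact hcyc r (mm r) hs hsK hP x hx hxs (sub_one_le_mm hr3) hFC
    · have hlt : r < s := lt_of_le_of_ne hrs fun h1 => h (h1 ▸ hsK)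
      exact hC s r x hs hr hr3 hlt h hst hsK hP hx hxs hxr hPC hFC
  · have hP' : ∀ P : Sylow s K, ¬ IsCyclic (P : Subgroup K) := by
      intro P hPc
      apply hP
      intro P'
      exact ((Sylow.equiv P P').isCyclic).1 hPc
    exact hN s r x hs hr hr3 hrs hrK hst hsK hP' hx hxs hxr hPC hFC

/-- the statement of PI-G (`sm_of_lie`) in `Type` -/
def SMHyp : Prop := ∀ (K : Type) [Group K] [Finite K] [IsSimpleGroup K] (t : ℕ), t.Prime → IsLieTypeChar t K → SM t K

/-- the statement of PI-C3 (`false_of_cyclic`) in `Type` -/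
def CycHyp : Prop := ∀ (K : Type) [Group K] [Finite K] [IsSimpleGroup K], ¬ IsMulCommutative K → Cyc K

/-- the rows `NR` and `CY` of a family `P` of groups of Lie type -/
structure LieRow (P : ℕ → (K : Type) → [Group K] → Prop) : Prop where
  nr : ∀ (t : ℕ) (K : Type) [Group K] [Finite K] [IsSimpleGroup K], ¬ IsMulCommutative K → t.Prime → P t K → NR t K
  cy : ∀ (t : ℕ) (K : Type) [Group K] [Finite K] [IsSimpleGroup K], ¬ IsMulCommutative K → t.Prime → P t K → CY t K

/-- the row of one group (`P K` is `Nonempty (K ≃* _)`) -/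
def SpRow (P : (K : Type) → [Group K] → Prop) : Prop :=
  ∀ (K : Type) [Group K] [Finite K] [IsSimpleGroup K], P K → RowP K

/-- the sporadic rows -/
structure SpRows : Prop where
  m11 : SpRow fun K => Spor.IsoM11 K
  m12 : SpRow fun K => Spor.IsoM12 K
  m22 : SpRow fun K => Spor.IsoM22 K
  m23 : SpRow fun K => Spor.IsoM23 K
  m24 : SpRow fun K => Spor.IsoM24 K
  j1 : SpRow fun K => Spor.IsoJ1 K
  j2 : SpRow fun K => Spor.IsoJ2 K
  j3 : SpRow fun K => Spor.IsoJ3 K
  j4 : SpRow fun K => Spor.IsoJ4 K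
  co1 : SpRow fun K => Spor.IsoCo1 K
  co2 : SpRow fun K => Spor.IsoCo2 K
  co3 : SpRow fun K => Spor.IsoCo3 K
  mcl : SpRow fun K => Spor.IsoMcL K
  hs : SpRow fun K => Spor.IsoHS K
  suz : SpRow fun K => Spor.IsoSuz K
  he : SpRow fun K => Spor.IsoHe K
  ru : SpRow fun K => Spor.IsoRu K
  on : SpRow fun K => Spor.IsoON K
  ly : SpRow fun K => Spor.IsoLy K
  fi22 : SpRow fun K => Spor.IsoFi22 K
  fi23 : SpRow fun K => Spor.IsoFi23 K
  fi24 : SpRow fun K => Spor.IsoFi24' K
  hn : SpRow fun K => Spor.IsoHN K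
  th : SpRow fun K => Spor.IsoTh K
  b : SpRow fun K => Spor.IsoB K
  m : SpRow fun K => Spor.IsoM K

/-- all rows -/
structure Rows : Prop where
  alt : ∀ n : ℕ, 5 ≤ n → RowP ↥(alternatingGroup (Fin n))
  psl : LieRow fun t K => IsPSLChar t K
  psp : LieRow fun t K => IsPSpChar t K
  psu : LieRow fun t K => IsPSUChar t K
  oodd : LieRow fun t K => IsPOmegaOddChar t K
  oplus : LieRow fun t K => IsPOmegaPlusChar t K
  ominus : LieRow fun t K => IsPOmegaMinusChar t K
  g2 : LieRow fun t K => ∃ (F : Type) (_ : Field F) (_ : Fintype F) (_ : CharP F t),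
    3 ≤ Fintype.card F ∧ Nonempty (K ≃* Lie.chevG2.group F)
  f4 : LieRow fun t K => ∃ (F : Type) (_ : Field F) (_ : Fintype F) (_ : CharP F t), Nonempty (K ≃* Lie.chevF4.group F)
  e6 : LieRow fun t K => ∃ (F : Type) (_ : Field F) (_ : Fintype F) (_ : CharP F t), Nonempty (K ≃* Lie.chevE6.group F)
  e7 : LieRow fun t K => ∃ (F : Type) (_ : Field F) (_ : Fintype F) (_ : CharP F t), Nonempty (K ≃* Lie.chevE7.group F)
  e8 : LieRow fun t K => ∃ (F : Type) (_ : Field F) (_ : Fintype F) (_ : CharP F t), Nonempty (K ≃* Lie.chevE8.group F)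
  te6 : LieRow fun t K => ∃ (F : Type) (_ : Field F) (_ : Fintype F) (_ : CharP F t) (q : ℕ), IsPrimePow q ∧
    Fintype.card F = q ^ 2 ∧ Nonempty (K ≃* Lie.twistedE6 F q)
  td4 : LieRow fun t K => ∃ (F : Type) (_ : Field F) (_ : Fintype F) (_ : CharP F t) (q : ℕ), IsPrimePow q ∧
    Fintype.card F = q ^ 3 ∧ Nonempty (K ≃* Lie.twistedD4 F q)
  sz : LieRow fun t K => t = 2 ∧ Lie.IsoSuzuki K
  tf4 : LieRow fun t K => t = 2 ∧ Lie.Iso2F4 K
  ree : LieRow fun t K => t = 3 ∧ Lie.IsoRee K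
  tits : SpRow fun K => Lie.IsoTits K
  spor : SpRows

theorem LieRow.rowP {P : ℕ → (K : Type) → [Group K] → Prop} (h : LieRow P) (hSM : SMHyp) (hcyc : CycHyp) {t : ℕ}
    {K : Type} [Group K] [Finite K] [IsSimpleGroup K] (hna : ¬ IsMulCommutative K) (ht : t.Prime)
    (hL : IsLieTypeChar t K) (hP : P t K) : RowP K :=
  rowP_of_parts (hSM K t ht hL) (hcyc K hna) (h.nr t K hna ht hP) (h.cy t K hna ht hP)

theorem Rows.lie (R : Rows) (hSM : SMHyp) (hcyc : CycHyp) {t : ℕ} {K : Type} [Group K] [Finite K] [IsSimpleGroup K]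
    (hna : ¬ IsMulCommutative K) (ht : t.Prime) (hL : IsLieTypeChar t K) : RowP K := by
  rcases id hL with h | h | h | h | h | h | h | h | h | h | h
  · exact R.psl.rowP hSM hcyc hna ht hL h
  · exact R.psp.rowP hSM hcyc hna ht hL h
  · exact R.psu.rowP hSM hcyc hna ht hL h
  · exact R.oodd.rowP hSM hcyc hna ht hL h
  · exact R.oplus.rowP hSM hcyc hna ht hL h
  · exact R.ominus.rowP hSM hcyc hna ht hL h
  · obtain ⟨F, i1, i2, i3, h | h | h | h | h⟩ := h
    · exact R.g2.rowP hSM hcyc hna ht hL ⟨F, i1, i2, i3, h⟩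
    · exact R.f4.rowP hSM hcyc hna ht hL ⟨F, i1, i2, i3, h⟩
    · exact R.e6.rowP hSM hcyc hna ht hL ⟨F, i1, i2, i3, h⟩
    · exact R.e7.rowP hSM hcyc hna ht hL ⟨F, i1, i2, i3, h⟩
    · exact R.e8.rowP hSM hcyc hna ht hL ⟨F, i1, i2, i3, h⟩
  · obtain ⟨F, i1, i2, i3, q, hq, ⟨h1, h2⟩ | ⟨h1, h2⟩⟩ := h
    · exact R.te6.rowP hSM hcyc hna ht hL ⟨F, i1, i2, i3, q, hq, h1, h2⟩
    · exact R.td4.rowP hSM hcyc hna ht hL ⟨F, i1, i2, i3, q, hq, h1, h2⟩
  · exact R.sz.rowP hSM hcyc hna ht hL h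
  · exact R.tf4.rowP hSM hcyc hna ht hL h
  · exact R.ree.rowP hSM hcyc hna ht hL h

theorem SpRows.row (R : SpRows) {K : Type} [Group K] [Finite K] [IsSimpleGroup K] (h : IsSporadicGroup K) : RowP K := by
  rcases h with h | h | h | h | h | h | h | h | h | h | h | h | h | h | h | h | h | h | h | h | h | h | h | h | h | h
  · exact R.m11 K h
  · exact R.m12 K h
  · exact R.m22 K h
  · exact R.m23 K h
  · exact R.m24 K h
  · exact R.j1 K h
  · exact R.j2 K h
  · exact R.j3 K h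
  · exact R.j4 K h
  · exact R.co1 K h
  · exact R.co2 K h
  · exact R.co3 K h
  · exact R.mcl K h
  · exact R.hs K h
  · exact R.suz K h
  · exact R.he K h
  · exact R.ru K h
  · exact R.on K h
  · exact R.ly K h
  · exact R.fi22 K h
  · exact R.fi23 K h
  · exact R.fi24 K h
  · exact R.hn K h
  · exact R.th K h
  · exact R.b K h
  · exact R.m K h

/-- **The row of every nonabelian simple group, by the classification.** -/
theorem rowP_of_known_of (R : Rows) (hSM : SMHyp) (hcyc : CycHyp) {K : Type u} [Group K] [Finite K] [IsSimpleGroup K]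
    (hna : ¬ IsMulCommutative K) : RowP K := by
  -- a copy in `Type`
  obtain ⟨K0, iK0, ⟨e⟩⟩ : ∃ (K0 : Type) (_ : Group K0), Nonempty (K0 ≃* K) :=
    ⟨Fin (Nat.card K), (Finite.equivFin K).symm.group, ⟨(Finite.equivFin K).symm.mulEquiv⟩⟩
  have hfin : Finite K0 := Finite.of_equiv K e.symm.toEquiv
  have hsim : IsSimpleGroup K0 := (MulEquiv.isSimpleGroup_congr e).2 inferInstance
  have hna0 : ¬ IsMulCommutative K0 := by
    intro h
    apply hna
    refine ⟨⟨fun a b => ?_⟩⟩
    have h1 := h.is_comm.comm (e.symm a) (e.symm b)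
    have h2 := congrArg e h1
    simpa using h2
  refine RowP.tr e ?_
  rcases Cfsg.Agent.OddHalf.Known.classify' hna0 (Cfsg.Agent.S0000.result (G := K0)) with h | ⟨p, hp, h⟩ | h | h
  · obtain ⟨n, hn, ⟨f⟩⟩ := h
    exact RowP.tr f.symm (R.alt n hn)
  · exact R.lie hSM hcyc hna0 hp h
  · exact R.tits K0 h
  · exact R.spor.row h

end Cfsg.Agent.H809.Pi
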