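import Cfsg.Agent.H809.Pi.Sec
import Cfsg.Agent.SignalizersComponents.SLQuasisimple
import Cfsg.Agent.S0276
import Cfsg.Agent.CpQuot.Congr
import Mathlib.LinearAlgebra.Transvection.Basic
import Mathlib.LinearAlgebra.SpecialLinearGroup

/-!
# S4324: good groups, tools and `SL(W)` (helper809)

* `isSc_of_eig` : a semilinear map all of whose vectors are eigenvectors is a scalar (`dim ≥ 2`);
* `sgood_of_dich`, `sgood_of_quasi`, `sgood_of_card_six` : criteria for `SGood`;
* `semiGood_sl`, `sgood_sl`, `sl_closure`.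
-/

set_option autoImplicit false
set_option linter.unusedSectionVars false

namespace Cfsg.Agent.H809.Sec

open Subgroup Cfsg Cfsg.Agent.H216.Pi
open Cfsg.Agent.BpCl (Semi)

universe u v

section Tools

variable {F : Type u} {W : Type v} [Field F] [AddCommGroup W] [Module F W]

/-- a second vector -/
theorem exists_indep (h2 : 2 ≤ Module.finrank F W) {u : W} (hu : u ≠ 0) : ∃ w : W, ∀ a : F, w ≠ a • u := by
  by_contra hcon
  push Not at hcon
  have h1 : (Submodule.span F {u} : Submodule F W) = ⊤ := by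
    rw [eq_top_iff]
    intro w _
    obtain ⟨a, rfl⟩ := hcon w
    exact Submodule.smul_mem _ _ (Submodule.mem_span_singleton_self u)
  have h3 := finrank_span_singleton (K := F) hu
  rw [h1, finrank_top] at h3
  omega

/-- a semilinear map all of whose vectors are eigenvectors is a scalar -/
theorem isSc_of_eig (h2 : 2 ≤ Module.finrank F W) {g : W → W} (hadd : ∀ u v, g (u + v) = g u + g v)
    (h : ∀ u, ∃ c : F, g u = c • u) : IsSc F g := by
  have hg0 : g 0 = 0 := by
    obtain ⟨c, hc⟩ := h 0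
    rw [hc, smul_zero]
  -- independent vectors have the same eigenvalue
  have key : ∀ u v : W, ∀ a b : F, g u = a • u → g v = b • v → u ≠ 0 → (∀ c : F, v ≠ c • u) → a = b := by
    intro u v a b ha hb hu hv
    obtain ⟨c, hc⟩ := h (u + v)
    rw [hadd, ha, hb, smul_add] at hc
    have h3 : (b - c) • v = (c - a) • u := by
      rw [sub_smul, sub_smul, sub_eq_sub_iff_add_eq_add]
      rw [add_comm, hc, add_comm]
    have hbc : b = c := by
      by_contra hne
      apply hv ((b - c)⁻¹ * (c - a))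
      rw [mul_smul, ← h3, smul_smul, inv_mul_cancel₀ (sub_ne_zero.2 hne), one_smul]
    rw [hbc, sub_self, zero_smul] at h3
    rcases smul_eq_zero.1 h3.symm with h4 | h4
    · rw [hbc]; exact (sub_eq_zero.1 h4).symm
    · exact absurd h4 hu
  have hW : Nontrivial W := Module.nontrivial_of_finrank_pos (R := F) (by omega)
  obtain ⟨u, hu⟩ := exists_ne (0 : W)
  obtain ⟨c, hc⟩ := h u
  refine ⟨c, fun v => ?_⟩
  obtain ⟨b, hb⟩ := h v
  by_cases hv : ∀ a : F, v ≠ a • u
  · rw [hb, key u v c b hc hb hu hv]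
  · push Not at hv
    obtain ⟨a, rfl⟩ := hv
    by_cases ha : a = 0
    · rw [ha, zero_smul, hg0, smul_zero]
    · have hau : a • u ≠ 0 := smul_ne_zero ha hu
      obtain ⟨w, hw⟩ := exists_indep h2 hu
      obtain ⟨d, hd⟩ := h w
      have e1 := key u w c d hc hd hu hw
      have e2 := key (a • u) w b d hb hd hau (fun e he => hw (e * a) (by rw [he, mul_smul]))
      rw [hb, e2, ← e1]

theorem IsSc.pow {g : W ≃ₗ[F] W} (h : IsSc F (⇑g)) (n : ℕ) : IsSc F (⇑(g ^ n)) := by
  obtain ⟨c, hc⟩ := h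
  refine ⟨c ^ n, ?_⟩
  induction n with
  | zero => intro v; rw [pow_zero, pow_zero, one_smul]; rfl
  | succ n ih =>
    intro v
    rw [pow_succ, pow_succ]
    change (g ^ n) (g v) = _
    rw [hc, map_smul, ih, smul_smul, mul_comm]

/-- an element of order `s` with a scalar power prime to `s` -/
theorem isSc_of_pow {s : ℕ} (hs : s.Prime) {y : W ≃ₗ[F] W} (hy : y ^ s = 1) {k : ℕ} (hk : ¬ s ∣ k)
    (h : IsSc F (⇑(y ^ k))) : IsSc F (⇑y) := by
  have hc : Nat.Coprime s k := (Nat.Prime.coprime_iff_not_dvd hs).2 hk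
  obtain ⟨a, -, ha⟩ := Nat.exists_mul_mod_eq_one_of_coprime hc.symm hs.one_lt
  have h1 : y = (y ^ k) ^ a := by
    rw [← pow_mul, ← Nat.div_add_mod (k * a) s, ha, pow_add, pow_mul, hy, one_pow, one_mul, pow_one]
  rw [h1]
  exact h.pow a

/-- the criterion for `core` -/
theorem sgood_of_dich {s : ℕ} (hs : s.Prime) {Y : Subgroup (W ≃ₗ[F] W)}
    (hlin : ∀ g : W ≃ₗ[F] W, (∀ y ∈ Y, ∃ c : F, ∀ v, g (y v) = c • y (g v)) → IsSc F (⇑g))
    (hd : ∀ N : Subgroup (W ≃ₗ[F] W), N ≤ Y → (∀ y ∈ Y, ∀ n ∈ N, y * n * y⁻¹ ∈ N) → (∀ n ∈ N, IsSc F (⇑n)) ∨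
      ∃ y ∈ N, y ^ s = 1 ∧ ¬ IsSc F (⇑y)) : SGood s Y := by
  refine ⟨fun N hN hn hp => ?_, hlin⟩
  rcases hd N hN hn with h | ⟨y, hy, hys, hy1⟩
  · exact h
  · exfalso
    obtain ⟨k, hk, h1⟩ := hp y hy
    exact hy1 (isSc_of_pow hs hys hk h1)

/-- commuting elements -/
theorem isSc_of_central {Y : Subgroup (W ≃ₗ[F] W)}
    (hlin : ∀ g : W ≃ₗ[F] W, (∀ y ∈ Y, ∃ c : F, ∀ v, g (y v) = c • y (g v)) → IsSc F (⇑g)) {g : W ≃ₗ[F] W}
    (hg : ∀ y ∈ Y, g * y = y * g) : IsSc F (⇑g) := by
  apply hlin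
  intro y hy
  refine ⟨1, fun v => ?_⟩
  rw [one_smul]
  exact LinearEquiv.congr_fun (hg y hy) v

/-- quasisimple groups -/
theorem sgood_of_quasi {s : ℕ} (hs : s.Prime) {Y : Subgroup (W ≃ₗ[F] W)} (hq : IsQuasisimple ↥Y)
    (hlin : ∀ g : W ≃ₗ[F] W, (∀ y ∈ Y, ∃ c : F, ∀ v, g (y v) = c • y (g v)) → IsSc F (⇑g))
    (hy : ∃ y ∈ Y, y ^ s = 1 ∧ ¬ IsSc F (⇑y)) : SGood s Y := by
  refine sgood_of_dich hs hlin fun N hN hn => ?_
  have hN' : (N.subgroupOf Y).Normal := by
    refine ⟨fun n hnn y => ?_⟩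
    rw [mem_subgroupOf] at hnn ⊢
    exact hn y y.2 n hnn
  have hsi := hq.2
  have hperf : commutator ↥Y = ⊤ := hq.1.commutator_eq_top
  have hM := hN'.map (QuotientGroup.mk' (center ↥Y)) (QuotientGroup.mk'_surjective _)
  rcases hM.eq_bot_or_eq_top with h | h
  · left
    intro n hnN
    have h1 : (⟨n, hN hnN⟩ : ↥Y) ∈ center ↥Y := by
      have h2 : QuotientGroup.mk' (center ↥Y) ⟨n, hN hnN⟩ ∈ (N.subgroupOf Y).map (QuotientGroup.mk' (center ↥Y)) :=
        ⟨_, mem_subgroupOf.2 hnN, rfl⟩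
      rw [h, mem_bot] at h2
      exact (QuotientGroup.eq_one_iff _).1 h2
    apply isSc_of_central hlin
    intro y hyY
    exact (congrArg Subtype.val (mem_center_iff.1 h1 ⟨y, hyY⟩)).symm
  · right
    obtain ⟨y, hyY, hys, hy1⟩ := hy
    refine ⟨y, ?_, hys, hy1⟩
    -- `N Z = Y`, so `N ≥ [Y, Y] = Y`
    have h1 : commutator ↥Y ≤ N.subgroupOf Y := by
      rw [commutator_def, commutator_le]
      intro a _ b _
      have ha : QuotientGroup.mk' (center ↥Y) a ∈ (N.subgroupOf Y).map (QuotientGroup.mk' (center ↥Y)) := by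
        rw [h]; exact mem_top _
      obtain ⟨n, hnn, hna⟩ := ha
      have h2 : n⁻¹ * a ∈ center ↥Y := QuotientGroup.eq.1 hna
      set z := n⁻¹ * a with hz
      have h3 : a = n * z := by rw [hz, mul_inv_cancel_left]
      have h4 := mem_center_iff.1 h2
      rw [h3, commutatorElement_def, mul_inv_rev]
      have e : n * z * b * (z⁻¹ * n⁻¹) * b⁻¹ = n * (b * n⁻¹ * b⁻¹) := by
        have h5 : z * b = b * z := (h4 b).symm
        calc n * z * b * (z⁻¹ * n⁻¹) * b⁻¹ = n * (z * b) * z⁻¹ * n⁻¹ * b⁻¹ := by group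
          _ = n * (b * z) * z⁻¹ * n⁻¹ * b⁻¹ := by rw [h5]
          _ = _ := by group
      rw [e]
      exact mul_mem hnn (hN'.conj_mem _ (inv_mem hnn) b)
    rw [hperf] at h1
    have h2 := h1 (mem_top (⟨y, hyY⟩ : ↥Y))
    exact mem_subgroupOf.1 h2

/-- groups of order 6 -/
theorem sgood_of_card_six {Y : Subgroup (W ≃ₗ[F] W)} (hY : Nat.card ↥Y = 6)
    (hlin : ∀ g : W ≃ₗ[F] W, (∀ y ∈ Y, ∃ c : F, ∀ v, g (y v) = c • y (g v)) → IsSc F (⇑g))
    (hsc : ∀ y ∈ Y, y ^ 3 = 1 → IsSc F (⇑y) → y = 1) : SGood 3 Y := by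
  refine sgood_of_dich Nat.prime_three hlin fun N hN hn => ?_
  have hfin : Finite ↥Y := Nat.finite_of_card_ne_zero (by rw [hY]; norm_num)
  have hfN : Finite ↥N := Finite.of_injective _ (Subgroup.inclusion_injective hN)
  by_cases h3 : 3 ∣ Nat.card ↥N
  · right
    have : Fact (Nat.Prime 3) := ⟨Nat.prime_three⟩
    obtain ⟨y, hy⟩ := exists_prime_orderOf_dvd_card' 3 h3
    have h1 : (y : W ≃ₗ[F] W) ^ 3 = 1 := by
      have := pow_orderOf_eq_one y
      rw [hy] at this
      exact congrArg Subtype.val this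
    refine ⟨y, y.2, h1, fun hsc' => ?_⟩
    have h4 := hsc y (hN y.2) h1 hsc'
    have h5 : y = 1 := Subtype.ext h4
    rw [h5, orderOf_one] at hy
    norm_num at hy
  · left
    have h6 : Nat.card ↥N ∣ 6 := hY ▸ Subgroup.card_dvd_of_le hN
    have h2 : Nat.card ↥N ≤ 2 := by
      have h7 := Nat.le_of_dvd (by norm_num) h6
      generalize Nat.card ↥N = m at *
      interval_cases m <;> omega
    intro n hnN
    apply isSc_of_central hlin
    intro y hy
    -- `N = {1, n}`
    by_cases hn1 : n = 1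
    · rw [hn1, one_mul, mul_one]
    · have h7 := hn y hy n hnN
      have h8 : y * n * y⁻¹ = n := by
        by_contra hne
        have hne1 : y * n * y⁻¹ ≠ 1 := by
          intro h9
          apply hn1
          have : n = y⁻¹ * (y * n * y⁻¹) * y := by group
          rw [this, h9]; group
        let f : Fin 3 → ↥N := ![⟨1, N.one_mem⟩, ⟨n, hnN⟩, ⟨y * n * y⁻¹, h7⟩]
        have hf : Function.Injective f := by
          intro i j hij
          have h10 := congrArg Subtype.val hij
          fin_cases i <;> fin_cases j <;> first | rfl | (exfalso; revert h10; simp [f]; tauto)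
        have h9 := Nat.card_le_card_of_injective f hf
        rw [Nat.card_eq_fintype_card, Fintype.card_fin] at h9
        omega
      have h9 : y * n = n * y := by
        rw [mul_inv_eq_iff_eq_mul] at h8
        exact h8
      exact h9.symm

end Tools

/-! ### `SL(W)` -/

section SL

variable {F : Type u} {W : Type v} [Field F] [AddCommGroup W] [Module F W] [FiniteDimensional F W]

/-- `SL_n(F)` acting on `W` -/
noncomputable def slHom {n : ℕ} (e : (Fin n → F) ≃ₗ[F] W) : Matrix.SpecialLinearGroup (Fin n) F →* (W ≃ₗ[F] W) :=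
  (cjE e).comp Matrix.SpecialLinearGroup.toLin'

theorem slHom_apply {n : ℕ} (e : (Fin n → F) ≃ₗ[F] W) (A : Matrix.SpecialLinearGroup (Fin n) F) (v : Fin n → F) :
    slHom e A (e v) = e (A • v) := by
  change e (Matrix.SpecialLinearGroup.toLin' A (e.symm (e v))) = _
  rw [e.symm_apply_apply]
  rfl

theorem slHom_injective {n : ℕ} (e : (Fin n → F) ≃ₗ[F] W) : Function.Injective (slHom e) := by
  intro A B h
  apply Cfsg.Agent.LieClassical.SLGen.smul_ext
  intro v
  apply e.injective
  rw [← slHom_apply, ← slHom_apply, h]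

theorem slHom_range {n : ℕ} (e : (Fin n → F) ≃ₗ[F] W) :
    (slHom e).range = (LinearEquiv.det (R := F) (M := W)).ker := by
  apply le_antisymm
  · rintro _ ⟨A, rfl⟩
    rw [MonoidHom.mem_ker]
    apply Units.ext
    rw [LinearEquiv.coe_det, Units.val_one]
    have h1 : ((slHom e A : W ≃ₗ[F] W) : W →ₗ[F] W) = (e : (Fin n → F) →ₗ[F] W) ∘ₗ (Matrix.toLin' A.1) ∘ₗ
        (e.symm : W →ₗ[F] (Fin n → F)) := rfl
    rw [h1, LinearMap.det_conj, LinearMap.det_toLin']
    exact A.2
  · intro y hy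
    rw [MonoidHom.mem_ker] at hy
    have h1 : LinearMap.det ((e.symm : W →ₗ[F] (Fin n → F)) ∘ₗ (y : W →ₗ[F] W) ∘ₗ
        (e.symm.symm : (Fin n → F) →ₗ[F] W)) = 1 := by
      rw [LinearMap.det_conj, ← LinearEquiv.coe_det, hy, Units.val_one]
    obtain ⟨A, hA⟩ : ∃ A : Matrix.SpecialLinearGroup (Fin n) F, A.1 = LinearMap.toMatrix'
        ((e.symm : W →ₗ[F] (Fin n → F)) ∘ₗ (y : W →ₗ[F] W) ∘ₗ (e.symm.symm : (Fin n → F) →ₗ[F] W)) :=
      ⟨⟨_, by rw [LinearMap.det_toMatrix', h1]⟩, rfl⟩
    refine ⟨A, ?_⟩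
    apply LinearEquiv.ext
    intro w
    obtain ⟨v, rfl⟩ := e.surjective w
    rw [slHom_apply, Matrix.SpecialLinearGroup.smul_def]
    change e (Matrix.mulVec A.1 v) = _
    rw [hA, ← Matrix.toLin'_apply, Matrix.toLin'_toMatrix']
    change e (e.symm (y (e v))) = _
    rw [e.apply_symm_apply]

/-- `SL_n(F) ≃ SL(W)` -/
noncomputable def slEquiv {n : ℕ} (e : (Fin n → F) ≃ₗ[F] W) :
    Matrix.SpecialLinearGroup (Fin n) F ≃* ↥(LinearEquiv.det (R := F) (M := W)).ker :=
  (MonoidHom.ofInjective (slHom_injective e)).trans (MulEquiv.subgroupCongr (slHom_range e))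

/-- coordinates -/
theorem exists_coordE (F : Type u) (W : Type v) [Field F] [AddCommGroup W] [Module F W] [FiniteDimensional F W] :
    Nonempty ((Fin (Module.finrank F W) → F) ≃ₗ[F] W) :=
  ⟨(Module.finBasis F W).equivFun.symm⟩

/-- `SL(W)` is generated by transvections -/
theorem sl_closure : (LinearEquiv.det (R := F) (M := W)).ker = closure (LinearEquiv.transvections F W) := by
  apply le_antisymm
  · obtain ⟨e⟩ := exists_coordE F W
    rw [← slHom_range e, MonoidHom.range_eq_map, ← Cfsg.Agent.LieClassical.SLGen.closure_transvections,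
      MonoidHom.map_closure]
    apply Subgroup.closure_mono
    rintro _ ⟨_, ⟨i, j, hij, c, rfl⟩, rfl⟩
    have hf : (c • (LinearMap.proj j ∘ₗ (e.symm : W →ₗ[F] (Fin (Module.finrank F W) → F))) : Module.Dual F W)
        (e (Pi.single i 1)) = 0 := by
      simp [hij.symm]
    refine ⟨c • (LinearMap.proj j ∘ₗ (e.symm : W →ₗ[F] (Fin (Module.finrank F W) → F))), e (Pi.single i 1), hf, ?_⟩
    apply LinearEquiv.ext
    intro w
    obtain ⟨v, rfl⟩ := e.surjective w
    rw [slHom_apply, Cfsg.Agent.LieClassical.SLGen.transvection_smul, LinearEquiv.transvection.apply]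
    simp
  · rw [closure_le]
    rintro _ ⟨f, v, hfv, rfl⟩
    rw [SetLike.mem_coe, MonoidHom.mem_ker]
    apply Units.ext
    simp

theorem semiGood_sl (h2 : 2 ≤ Module.finrank F W) (φ : F ≃+* F) :
    SemiGood (LinearEquiv.det (R := F) (M := W)).ker φ := by
  intro g hg h
  apply isSc_of_eig h2 hg.add
  intro u
  by_cases hu : u = 0
  · exact ⟨0, by rw [hu, hg.zero, smul_zero]⟩
  -- a functional vanishing at `u`
  obtain ⟨w, hw⟩ := exists_indep h2 hu
  obtain ⟨f, hfw, hfu⟩ : ∃ f : Module.Dual F W, f w ≠ 0 ∧ f u = 0 := by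
    have h3 : w ∉ Submodule.span F {u} := by
      rw [Submodule.mem_span_singleton]
      rintro ⟨a, ha⟩
      exact hw a ha.symm
    obtain ⟨f, hf, hf'⟩ := Submodule.exists_le_ker_of_notMem h3
    exact ⟨f, hf, hf' (Submodule.mem_span_singleton_self u)⟩
  have hmem : LinearEquiv.transvection hfu ∈ (LinearEquiv.det (R := F) (M := W)).ker := by
    rw [MonoidHom.mem_ker]
    apply Units.ext
    simp
  obtain ⟨c, hc⟩ := h _ hmem
  have e1 : ∀ v, g (v + f v • u) = c • (g v + f (g v) • u) := by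
    intro v
    have := hc v
    rwa [LinearEquiv.transvection.apply, LinearEquiv.transvection.apply] at this
  by_cases hc1 : c = 1
  · have e2 := e1 w
    rw [hc1, one_smul, hg.add, add_right_inj, hg.smul] at e2
    refine ⟨(φ (f w))⁻¹ * f (g w), ?_⟩
    rw [mul_smul, ← e2, smul_smul, inv_mul_cancel₀, one_smul]
    simpa using hfw
  · have e2 := e1 u
    rw [hfu, zero_smul, add_zero, smul_add] at e2
    have e3 : (1 - c) • g u = (c * f (g u)) • u := by
      rw [sub_smul, one_smul, mul_smul]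
      nth_rw 1 [e2]
      abel
    refine ⟨(1 - c)⁻¹ * (c * f (g u)), ?_⟩
    rw [mul_smul, ← e3, smul_smul, inv_mul_cancel₀ (sub_ne_zero.2 (Ne.symm hc1)), one_smul]

theorem lin_sl (h2 : 2 ≤ Module.finrank F W) (g : W ≃ₗ[F] W)
    (h : ∀ y ∈ (LinearEquiv.det (R := F) (M := W)).ker, ∃ c : F, ∀ v, g (y v) = c • y (g v)) : IsSc F (⇑g) :=
  semiGood_sl h2 (RingEquiv.refl F) g.toEquiv ⟨fun u v => map_add g u v, fun a v => map_smul g a v⟩ h

theorem card_slK [Finite F] (h1 : 1 ≤ Module.finrank F W) :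
    (Nat.card F - 1) * Nat.card ↥(LinearEquiv.det (R := F) (M := W)).ker =
    ∏ i : Fin (Module.finrank F W), (Nat.card F ^ Module.finrank F W - Nat.card F ^ (i : ℕ)) := by
  have : Fintype F := Fintype.ofFinite F
  obtain ⟨e⟩ := exists_coordE F W
  have hne : NeZero (Module.finrank F W) := ⟨by omega⟩
  rw [← Nat.card_congr (slEquiv e).toEquiv, ← Nat.card_units, Cfsg.Agent.S0276.card_sl_mul, Matrix.card_GL_field,
    Nat.card_eq_fintype_card]

/-- `s ∣ |SL(W)|` -/
theorem exists_sl [Finite F] {s : ℕ} (hs : s.Prime) (h3 : 3 ≤ s) (h2 : 2 ≤ Module.finrank F W) {i : ℕ} (hi : 1 ≤ i)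
    (hiw : i ≤ Module.finrank F W) (hd : s ∣ Nat.card F ^ i - 1) :
    ∃ y ∈ (LinearEquiv.det (R := F) (M := W)).ker, y ^ s = 1 ∧ ¬ IsSc F (⇑y) := by
  have hsF : Fact s.Prime := ⟨hs⟩
  obtain ⟨e⟩ := exists_coordE F W
  have : Fintype F := Fintype.ofFinite F
  by_cases h1 : s ∣ Nat.card F - 1
  · -- a diagonal element
    obtain ⟨ζ, hζ⟩ : ∃ ζ : Fˣ, orderOf ζ = s := by
      have h4 : s ∣ Nat.card Fˣ := by rwa [Nat.card_units]
      exact exists_prime_orderOf_dvd_card' s h4
    have hij : (⟨0, by omega⟩ : Fin (Module.finrank F W)) ≠ ⟨1, by omega⟩ := by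
      intro h; simp at h
    set A := Matrix.SpecialLinearGroup.diag2n hij (ζ : F) ζ.ne_zero with hA
    have hpow : ∀ n : ℕ, (A ^ n).1 = Matrix.diagonal (fun k ↦
      if k = (⟨0, by omega⟩ : Fin (Module.finrank F W)) then (ζ : F) ^ n else if k = ⟨1, by omega⟩ then
        ((ζ : F)⁻¹) ^ n else 1) := by
      intro n
      rw [Matrix.SpecialLinearGroup.coe_pow, hA, Matrix.SpecialLinearGroup.diag2n_coe, Matrix.diagonal_pow]
      congr 1
      funext k
      rw [Pi.pow_apply]
      split_ifs <;> simp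
    refine ⟨slHom e A, by rw [← slHom_range e]; exact ⟨A, rfl⟩, ?_, ?_⟩
    · rw [← map_pow]
      have h5 : A ^ s = 1 := by
        apply Subtype.ext
        rw [hpow]
        have h6 : (ζ : F) ^ s = 1 := by
          rw [← hζ, ← Units.val_pow_eq_pow_val, pow_orderOf_eq_one, Units.val_one]
        rw [inv_pow, h6, inv_one]
        simp
      rw [h5, map_one]
    · rintro ⟨c, hc⟩
      have e0 := hc (e (Pi.single ⟨0, by omega⟩ 1))
      have e1 := hc (e (Pi.single ⟨1, by omega⟩ 1))
      rw [slHom_apply, ← map_smul] at e0 e1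
      have e0' := congrFun (e.injective e0) ⟨0, by omega⟩
      have e1' := congrFun (e.injective e1) ⟨1, by omega⟩
      rw [hA, Cfsg.Agent.LieClassical.SLGen.diag2n_smul] at e0' e1'
      simp at e0' e1'
      have h6 : (ζ : F) * ζ = 1 := by
        have h7 : (ζ : F) = (ζ : F)⁻¹ := e0'.trans e1'.symm
        nth_rw 2 [h7]
        exact mul_inv_cancel₀ ζ.ne_zero
      have h7 : ζ ^ 2 = 1 := by
        apply Units.ext
        rw [Units.val_pow_eq_pow_val, pow_two, h6, Units.val_one]
      have h8 := orderOf_dvd_of_pow_eq_one h7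
      rw [hζ] at h8
      have := Nat.le_of_dvd (by norm_num) h8
      omega
  · have hfin : Finite W := Module.finite_of_finite F
    have : Finite (W ≃ₗ[F] W) := Finite.of_injective (fun h : W ≃ₗ[F] W => (h : W → W)) DFunLike.coe_injective
    have h4 : s ∣ Nat.card ↥(LinearEquiv.det (R := F) (M := W)).ker := by
      have h5 : s ∣ ∏ i : Fin (Module.finrank F W), (Nat.card F ^ Module.finrank F W - Nat.card F ^ (i : ℕ)) := by
        refine dvd_trans ?_ (Finset.dvd_prod_of_mem _ (Finset.mem_univ (⟨Module.finrank F W - i, by omega⟩ :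
          Fin (Module.finrank F W))))
        have h6 : Nat.card F ^ Module.finrank F W - Nat.card F ^ (Module.finrank F W - i) =
            Nat.card F ^ (Module.finrank F W - i) * (Nat.card F ^ i - 1) := by
          rw [Nat.mul_sub, ← pow_add, mul_one]
          congr 2
          omega
        rw [h6]
        exact hd.mul_left _
      rw [← card_slK (by omega)] at h5
      exact (hs.dvd_mul.1 h5).resolve_left h1
    obtain ⟨y, hy⟩ := exists_prime_orderOf_dvd_card' s h4
    have hys : (y : W ≃ₗ[F] W) ^ s = 1 := by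
      have := pow_orderOf_eq_one y
      rw [hy] at this
      exact congrArg Subtype.val this
    refine ⟨y, y.2, hys, ?_⟩
    rintro ⟨c, hc⟩
    have hW : Nontrivial W := Module.nontrivial_of_finrank_pos (R := F) (by omega)
    obtain ⟨w, hw⟩ := exists_ne (0 : W)
    have hpow : ∀ n : ℕ, ∀ v, ((y : W ≃ₗ[F] W) ^ n) v = c ^ n • v := by
      intro n
      induction n with
      | zero => intro v; rw [pow_zero, pow_zero, one_smul]; rfl
      | succ n ih =>
        intro v
        rw [pow_succ, pow_succ]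
        change (y.1 ^ n) (y.1 v) = _
        rw [hc, map_smul, ih, smul_smul, mul_comm]
    have hcs : c ^ s = 1 := by
      have h6 := hpow s w
      rw [hys] at h6
      have h7 : (c ^ s - 1) • w = 0 := by rw [sub_smul, one_smul, ← h6]; exact sub_self _
      exact sub_eq_zero.1 ((smul_eq_zero.1 h7).resolve_right hw)
    have hc0 : c ≠ 0 := by
      rintro rfl
      rw [zero_pow hs.ne_zero] at hcs
      exact zero_ne_one hcs
    have hcq : c ^ (Nat.card F - 1) = 1 := by
      rw [Nat.card_eq_fintype_card]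
      exact FiniteField.pow_card_sub_one_eq_one c hc0
    have hc1 : c = 1 := by
      have h6 : orderOf c ∣ s := orderOf_dvd_of_pow_eq_one hcs
      have h7 : orderOf c ∣ Nat.card F - 1 := orderOf_dvd_of_pow_eq_one hcq
      rcases (Nat.dvd_prime hs).1 h6 with h8 | h8
      · exact orderOf_eq_one_iff.1 h8
      · exact absurd (h8 ▸ h7) h1
    have h6 : (y : W ≃ₗ[F] W) = 1 := by
      apply LinearEquiv.ext
      intro v
      rw [hc, hc1, one_smul]
      rfl
    have h7 : y = 1 := Subtype.ext h6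
    rw [h7, orderOf_one] at hy
    exact hs.one_lt.ne hy

/-- **`SL(W)` is good.** -/
theorem sgood_sl [Finite F] {s : ℕ} (hs : s.Prime) (h3 : 3 ≤ s) (h2 : 2 ≤ Module.finrank F W) {i : ℕ} (hi : 1 ≤ i)
    (hiw : i ≤ Module.finrank F W) (hd : s ∣ Nat.card F ^ i - 1) :
    SGood s (LinearEquiv.det (R := F) (M := W)).ker := by
  have : Fintype F := Fintype.ofFinite F
  have hex := exists_sl hs h3 h2 hi hiw hd
  obtain ⟨e⟩ := exists_coordE F W
  by_cases hq : 3 ≤ Module.finrank F W ∨ 4 ≤ Nat.card F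
  · refine sgood_of_quasi hs ?_ (lin_sl h2) hex
    refine (Cfsg.Agent.CpQuot.Congr.isQuasisimple_iff (slEquiv e)).1 ?_
    rcases hq with h | h
    · exact Cfsg.Agent.SignalizersComponents.SLQuasisimple.isQuasisimple_of_three_le (by rwa [Fintype.card_fin])
    · rcases Nat.lt_or_ge 2 (Module.finrank F W) with h4 | h4
      · exact Cfsg.Agent.SignalizersComponents.SLQuasisimple.isQuasisimple_of_three_le (by rwa [Fintype.card_fin])
      · have h5 : Module.finrank F W = 2 := le_antisymm h4 h2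
        rw [h5]
        exact Cfsg.Agent.SignalizersComponents.SLQuasisimple.isQuasisimple_two h
  · push Not at hq
    obtain ⟨hw, hq⟩ := hq
    have hw2 : Module.finrank F W = 2 := by omega
    have hq2 : 2 ≤ Nat.card F := by rw [Nat.card_eq_fintype_card]; exact Fintype.one_lt_card
    have hi2 : i ≤ 2 := by omega
    -- `q = 2`, `s = 3`
    have hqs : Nat.card F = 2 ∧ s = 3 := by
      generalize Nat.card F = q at *
      have h6 : q = 2 ∨ q = 3 := by omega
      rcases h6 with rfl | rfl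
      · refine ⟨rfl, ?_⟩
        have h7 : i = 1 ∨ i = 2 := by omega
        rcases h7 with rfl | rfl
        · have := Nat.le_of_dvd (by norm_num) hd; omega
        · have := Nat.le_of_dvd (by norm_num) hd; omega
      · exfalso
        have h7 : i = 1 ∨ i = 2 := by omega
        rcases h7 with rfl | rfl
        · have := Nat.le_of_dvd (by norm_num) hd; omega
        · have h8 : s ∣ 2 ^ 3 := by simpa using hd
          have := Nat.le_of_dvd (by norm_num) (hs.dvd_of_dvd_pow h8)
          omega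
    obtain ⟨hq2', rfl⟩ := hqs
    refine sgood_of_card_six ?_ (lin_sl h2) ?_
    · have h6 := card_slK (F := F) (W := W) (by omega)
      rw [hq2', hw2] at h6
      have h7 : ∏ i : Fin 2, (2 ^ 2 - 2 ^ (i : ℕ)) = 6 := by decide
      rw [h7] at h6
      omega
    · intro y _ _ ⟨c, hc⟩
      have hc1 : c = 1 := by
        by_cases hc0 : c = 0
        · exfalso
          have hW : Nontrivial W := Module.nontrivial_of_finrank_pos (R := F) (by omega)
          obtain ⟨w, hw⟩ := exists_ne (0 : W)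
          have h8 := hc w
          rw [hc0, zero_smul] at h8
          exact hw ((map_eq_zero_iff y y.injective).1 h8)
        · have h8 := FiniteField.pow_card_sub_one_eq_one c hc0
          rw [← Nat.card_eq_fintype_card, hq2'] at h8
          simpa using h8
      apply LinearEquiv.ext
      intro v
      rw [hc, hc1, one_smul]
      rfl

end SL

end Cfsg.Agent.H809.Sec
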