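import Cfsg.Agent.H957.InvU3
import Cfsg.Agent.H957.T5U3
import Cfsg.Agent.H809.Pi.GoodSL

/-!
# S4324, PSU: the section facts for totally isotropic subspaces (helper809)

`hiso_u` : a semilinear isometry `g` which induces an automorphism `x` of `PSU_n(q)` with `PC s x` is scalar on every
totally isotropic `g`-invariant subspace of dimension `≥ 2, ≥ e` (`s ∣ (-q) ^ e - 1`).
-/

set_option autoImplicit false

namespace Cfsg.Agent.H809.IsoU

open Cfsg Cfsg.Agent.LieClassical.HermBasic Cfsg.Agent.LieClassical.HermSiegel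
open Cfsg.Agent.ClassicalGeometry.UnitAutBasic
open Cfsg.Agent.H957.T5U
open Cfsg.Agent.H177.MeetPSU (rho rho_apply rho_injective)
open Cfsg.Agent.H216.Pi (PC)
open Cfsg.Agent.H809.Sec (IsSc section_scalar SGood SemiGood sgood_sl semiGood_sl)
open Module

variable {F : Type} [Field F] {n q : ℕ}

/-- the pairs of an element of `SU` and its restriction to `W` -/
def prs (W : Submodule F (Fin n → F)) (q : ℕ) : Subgroup (SU n F q × (W ≃ₗ[F] W)) where
  carrier := {e | ∀ w : W, act e.1 w = (e.2 w : Fin n → F)}
  mul_mem' := by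
    rintro ⟨a, T⟩ ⟨b, S⟩ ha hb w
    change act (a * b) w = (T (S w) : Fin n → F)
    rw [act_mul]
    have h1 : act b w = (S w : Fin n → F) := hb w
    rw [h1]
    exact ha (S w)
  one_mem' := fun w => act_one _
  inv_mem' := by
    rintro ⟨a, T⟩ ha w
    change act a⁻¹ w = (T.symm w : Fin n → F)
    have h1 : act a (T.symm w : W) = ((T (T.symm w) : W) : Fin n → F) := ha (T.symm w)
    rw [T.apply_symm_apply] at h1
    rw [← h1, act_inv_act]

theorem mem_prs {W : Submodule F (Fin n → F)} (e : prs W q) (w : W) : act e.1.1 w = (e.1.2 w : Fin n → F) := e.2 w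

/-- **Totally isotropic subspaces.** -/
theorem hiso_u [Fintype F] {s e : ℕ} (hF : Fintype.card F = q ^ 2) (hn : 3 ≤ n)
    (hs : s.Prime) (hs3 : 3 ≤ s) (he : 1 ≤ e) (hd : (s : ℤ) ∣ (-(q : ℤ)) ^ e - 1) {x : MulAut (PSU n F q)}
    (hPC : PC s x) {θ : F ≃+* F} {g : Equiv.Perm (Fin n → F)} (hg : SI q θ g)
    (hi : Cfsg.Agent.H903.SylSemi.Ind (pr n F q) (rho n F q) g x) (W : Submodule F (Fin n → F))
    (h0 : ∀ u ∈ W, ∀ v ∈ W, hermForm n F q u v = 0) (hW : ∀ v ∈ W, g v ∈ W) (h2 : 2 ≤ finrank F W)
    (heW : e ≤ finrank F W) : ∃ a : F, ∀ v ∈ W, g v = a • v := by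
  classical
  have hSU : Finite (SU n F q) := inferInstance
  have hPSU : Finite (PSU n F q) := Finite.of_surjective _ (pr_surjective (n := n) (F := F) (q := q))
  -- the restriction of `g`
  obtain ⟨gW, hgW⟩ := exists_res (ι := ((↑) : W → Fin n → F)) (x := g) Subtype.val_injective
    (fun v => ⟨⟨g v, hW v v.2⟩, rfl⟩)
  have hgW' : ∀ v : W, (gW v : Fin n → F) = g v := fun v => (hgW v).symm
  have hsemi : Cfsg.Agent.BpCl.Semi θ gW := by
    refine ⟨fun u v => Subtype.ext ?_, fun a v => Subtype.ext ?_⟩
    · rw [hgW', Submodule.coe_add, Submodule.coe_add, hgW', hgW', hg.semi.add]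
    · rw [hgW', Submodule.coe_smul, Submodule.coe_smul, hgW', hg.semi.smul]
  have hWnt : Nontrivial W := Module.nontrivial_of_finrank_pos (R := F) (by omega)
  obtain ⟨w0, hw0⟩ := exists_ne (0 : W)
  have hw0' : (w0 : Fin n → F) ≠ 0 := fun h => hw0 (Subtype.ext h)
  obtain ⟨y, -, hyy, hy1⟩ := Cfsg.Agent.H77.Geom.exists_partner (q := q) hF (S := ∅) (v := (w0 : Fin n → F))
    (h0 _ w0.2 _ w0.2) (fun s hs => absurd hs (Set.notMem_empty s)) (by
      rw [Submodule.span_empty, Submodule.mem_bot]
      exact hw0')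
  have hyW : y ∉ W := by
    intro h
    rw [h0 _ w0.2 _ h] at hy1
    exact zero_ne_one hy1
  let a : prs W q →* PSU n F q := (pr n F q).comp ((MonoidHom.fst _ _).comp (prs W q).subtype)
  let ρ : prs W q →* (W ≃ₗ[F] W) := (MonoidHom.snd _ _).comp (prs W q).subtype
  have haa : ∀ e : prs W q, a e = pr n F q e.1.1 := fun _ => rfl
  have hρ : ∀ e : prs W q, ρ e = e.1.2 := fun _ => rfl
  have hcard : s ∣ Nat.card F ^ e - 1 := by
    have h1 : (s : ℤ) ∣ ((Nat.card F ^ e - 1 : ℕ) : ℤ) := by
      have h3 : 1 ≤ Nat.card F ^ e := Nat.one_le_pow _ _ Nat.card_pos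
      rw [Nat.cast_sub h3, Nat.card_eq_fintype_card, hF]
      have h4 : (((q ^ 2) ^ e : ℕ) : ℤ) - ((1 : ℕ) : ℤ) = ((-(q : ℤ)) ^ e - 1) * ((-(q : ℤ)) ^ e + 1) := by
        push_cast
        have h5 : ((q : ℤ) ^ 2) ^ e = (-(q : ℤ)) ^ e * (-(q : ℤ)) ^ e := by
          rw [← mul_pow]
          congr 1
          ring
        rw [h5]
        ring
      rw [h4]
      exact dvd_mul_of_dvd_left hd _
    exact_mod_cast h1
  have key : IsSc F (⇑gW) := by
    refine section_scalar hs a ?_ ρ ?_ hPC ?_ ?_ ?_ (sgood_sl hs hs3 h2 he heW hcard) hsemi (semiGood_sl h2 θ)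
    · -- proper
      intro htop
      have h1 : pr n F q (T hF y) ∈ a.range := by rw [htop]; exact Subgroup.mem_top _
      obtain ⟨e, he'⟩ := h1
      rw [haa] at he'
      obtain ⟨c, -, hc⟩ := exists_scalar_of_pr_eq hF hn he'
      have h3 := hc w0
      rw [act_T hF hyy, hy1, mul_one, mem_prs] at h3
      apply hyW
      have h4 : (c0 hF) • y ∈ W := by
        have h5 : (c0 hF) • y = c • (e.1.2 w0 : Fin n → F) - w0 := by rw [← h3, add_sub_cancel_left]
        rw [h5]
        exact W.sub_mem (W.smul_mem _ (Submodule.coe_mem _)) w0.2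
      exact (W.smul_mem_iff (c0_ne_zero hF)).1 h4
    · intro z hz
      obtain ⟨c, hc⟩ := Cfsg.Agent.H957.InvU.scal_of_pr hF hn (MonoidHom.mem_ker.1 hz)
      refine ⟨c, fun v => Subtype.ext ?_⟩
      rw [hρ, ← mem_prs]
      exact hc v
    · rintro ⟨⟨t, T⟩, hT⟩
      have hT' : ∀ w : W, act t w = (T w : Fin n → F) := hT
      obtain ⟨t', h1, h3⟩ := hi t
      have h4 : ∀ v, act t' (g v) = g (act t v) := by
        intro v
        have h5 : rho n F q t' (g v) = g (rho n F q t (g⁻¹ (g v))) :=
          congrArg (fun z : Equiv.Perm (Fin n → F) => z (g v)) h1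
        have h6 : g⁻¹ (g v) = v := g.symm_apply_apply v
        rw [h6] at h5
        exact h5
      let T' : W ≃ₗ[F] W :=
        { toFun := fun w => gW (T (gW.symm w))
          invFun := fun w => gW (T.symm (gW.symm w))
          map_add' := by
            intro u v
            have hs : gW.symm (u + v) = gW.symm u + gW.symm v := by
              apply gW.injective
              rw [hsemi.add, gW.apply_symm_apply, gW.apply_symm_apply, gW.apply_symm_apply]
            rw [hs, map_add, hsemi.add]
          map_smul' := by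
            intro c v
            have hs : gW.symm (c • v) = θ.symm c • gW.symm v := by
              apply gW.injective
              rw [hsemi.smul, gW.apply_symm_apply, gW.apply_symm_apply, θ.apply_symm_apply]
            rw [hs, map_smul, hsemi.smul, θ.apply_symm_apply, RingHom.id_apply]
          left_inv := fun w => by
            change gW (T.symm (gW.symm (gW (T (gW.symm w))))) = w
            rw [gW.symm_apply_apply, LinearEquiv.symm_apply_apply, gW.apply_symm_apply]
          right_inv := fun w => by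
            change gW (T (gW.symm (gW (T.symm (gW.symm w))))) = w
            rw [gW.symm_apply_apply, LinearEquiv.apply_symm_apply, gW.apply_symm_apply] }
      have hTa : ∀ w, T' w = gW (T (gW.symm w)) := fun _ => rfl
      refine ⟨⟨(t', T'), fun w => ?_⟩, h3, fun v => ?_⟩
      · obtain ⟨v, rfl⟩ := gW.surjective w
        change act t' (gW v) = (T' (gW v) : Fin n → F)
        rw [hTa, gW.symm_apply_apply, hgW', hgW', h4, hT']
      · change T' (gW v) = gW (T v)
        rw [hTa, gW.symm_apply_apply]
    · intro y hy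
      let b := Module.finBasis F W
      have hli : LinearIndependent F (fun j => (b j : Fin n → F)) :=
        b.linearIndependent.map' W.subtype W.ker_subtype
      have hdet : (LinearMap.toMatrix b b (y : W →ₗ[F] W)).det = 1 := by
        rw [LinearMap.det_toMatrix]
        have h1 := congrArg Units.val (MonoidHom.mem_ker.1 hy)
        rw [LinearEquiv.coe_det] at h1
        exact h1
      obtain ⟨t, ht⟩ := ti_ext hF (k := finrank F W) (by omega) hli (fun i j => h0 _ (b i).2 _ (b j).2) hdet
      have h3 : ∀ w : W, act t w = (y w : Fin n → F) := by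
        intro w
        have h4 : ∀ j, act t (b j) = (y (b j) : Fin n → F) := by
          intro j
          rw [ht]
          have h5 := b.sum_repr (y (b j))
          conv_rhs => rw [← h5]
          rw [Submodule.coe_sum]
          refine Finset.sum_congr rfl fun i _ => ?_
          rw [LinearMap.toMatrix_apply]
          rfl
        rw [← b.sum_repr w, Submodule.coe_sum, act_sum, map_sum, Submodule.coe_sum]
        refine Finset.sum_congr rfl fun i _ => ?_
        rw [Submodule.coe_smul, act_smul, h4, map_smul, Submodule.coe_smul]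
      exact ⟨⟨(t, y), h3⟩, rfl⟩
    · intro e y hy
      exact (MonoidHom.normal_ker _).conj_mem y hy (ρ e)
  obtain ⟨c, hc⟩ := key
  refine ⟨c, fun v hv => ?_⟩
  have h1 := congrArg Subtype.val (hc ⟨v, hv⟩)
  rw [hgW'] at h1
  exact h1

end Cfsg.Agent.H809.IsoU
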