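import Cfsg.Agent.H216.Pi.Base
import Cfsg.Agent.H952.RcEngine
import Cfsg.Agent.H952.RcForm

/-!
# S4324: the section lemma (helper809)

* `IsSc F g` : `g` is a scalar; `PrimeSc s R` : every element of `R` has a power prime to `s` which is a scalar;
* `SGood s Y`, `SemiGood Y φ` : `Y ≤ GL(W)` is good for `s` (linear maps, `φ`-semilinear maps);
* `section_scalar` : the section lemma for a group `E` with homomorphisms `a : E →* K`, `ρ : E →* GL(W)`;
* `section_lemma` : the section lemma for `Γ ≤ GL(V)`, `B ≤ V` and `p : B →ₗ[F] W` onto.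
-/

set_option autoImplicit false
set_option linter.unusedSectionVars false

namespace Cfsg.Agent.H809.Sec

open Subgroup Cfsg Cfsg.Agent.H216.Pi
open Cfsg.Agent.BpCl (Semi)

universe u v w

section Defs

variable {F : Type u} {W : Type v} [Field F] [AddCommGroup W] [Module F W]

variable (F) in
/-- `g` is a scalar -/
def IsSc (g : W → W) : Prop := ∃ c : F, ∀ v, g v = c • v

/-- every element of `R` has a power prime to `s` which is a scalar -/
def PrimeSc (s : ℕ) (R : Subgroup (W ≃ₗ[F] W)) : Prop := ∀ r ∈ R, ∃ k : ℕ, ¬ s ∣ k ∧ IsSc F (⇑(r ^ k))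

/-- **`Y ≤ GL(W)` is good for `s`.** -/
structure SGood (s : ℕ) (Y : Subgroup (W ≃ₗ[F] W)) : Prop where
  core : ∀ N : Subgroup (W ≃ₗ[F] W), N ≤ Y → (∀ y ∈ Y, ∀ n ∈ N, y * n * y⁻¹ ∈ N) → PrimeSc s N →
    ∀ n ∈ N, IsSc F (⇑n)
  lin : ∀ g : W ≃ₗ[F] W, (∀ y ∈ Y, ∃ c : F, ∀ v, g (y v) = c • y (g v)) → IsSc F (⇑g)

/-- only scalars commute with `Y` modulo scalars, among the `φ`-semilinear maps -/
def SemiGood (Y : Subgroup (W ≃ₗ[F] W)) (φ : F ≃+* F) : Prop :=
  ∀ g : Equiv.Perm W, Semi φ g → (∀ y ∈ Y, ∃ c : F, ∀ v, g (y v) = c • y (g v)) → IsSc F (⇑g)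

theorem PrimeSc.mono {s : ℕ} {R R' : Subgroup (W ≃ₗ[F] W)} (h : R ≤ R') (hR : PrimeSc s R') : PrimeSc s R :=
  fun r hr => hR r (h hr)

/-- good groups and semilinear maps which commute modulo a normalised `s'`-group -/
theorem SGood.scalar {s : ℕ} {Y : Subgroup (W ≃ₗ[F] W)} (hG : SGood s Y) {φ : F ≃+* F} (hS : SemiGood Y φ)
    {R : Subgroup (W ≃ₗ[F] W)} (hRY : ∀ r ∈ R, ∀ y ∈ Y, r * y * r⁻¹ ∈ Y) (hYR : ∀ y ∈ Y, ∀ r ∈ R, y * r * y⁻¹ ∈ R)
    (hR : PrimeSc s R) {g : Equiv.Perm W} (hg : Semi φ g)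
    (h : ∀ y ∈ Y, ∃ r ∈ R, ∀ v, g (y v) = y (r (g v))) : IsSc F (⇑g) := by
  -- `[R, Y]` is scalar
  have h1 : ∀ n ∈ R ⊓ Y, IsSc F (⇑n) := by
    refine hG.core (R ⊓ Y) inf_le_right ?_ (hR.mono inf_le_left)
    intro y hy n hn
    exact ⟨hYR y hy n hn.1, Y.mul_mem (Y.mul_mem hy hn.2) (Y.inv_mem hy)⟩
  have h2 : ∀ r ∈ R, IsSc F (⇑r) := by
    intro r hr
    apply hG.lin
    intro y hy
    obtain ⟨c, hc⟩ := h1 (r * y * r⁻¹ * y⁻¹) ⟨by
      have h3 : r * y * r⁻¹ * y⁻¹ = r * (y * r⁻¹ * y⁻¹) := by group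
      rw [h3]
      exact R.mul_mem hr (hYR y hy _ (R.inv_mem hr)), Y.mul_mem (hRY r hr y hy) (Y.inv_mem hy)⟩
    refine ⟨c, fun v => ?_⟩
    have h4 := hc (y (r v))
    have h5 : (r * y * r⁻¹ * y⁻¹) (y (r v)) = r (y v) := by
      have : (r * y * r⁻¹ * y⁻¹) * (y * r) = r * y := by group
      have h6 := LinearEquiv.congr_fun this v
      exact h6
    rw [← h5, h4]
  apply hS g hg
  intro y hy
  obtain ⟨r, hr, hr'⟩ := h y hy
  obtain ⟨c, hc⟩ := h2 r hr
  refine ⟨c, fun v => ?_⟩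
  rw [hr', hc, map_smul]

/-! ### transport along linear isomorphisms -/

variable {W' : Type w} [AddCommGroup W'] [Module F W']

/-- conjugation by a linear isomorphism -/
def cjE (e : W ≃ₗ[F] W') : (W ≃ₗ[F] W) →* (W' ≃ₗ[F] W') where
  toFun y := (e.symm.trans y).trans e
  map_one' := by ext v; simp
  map_mul' a b := by ext v; simp [LinearEquiv.mul_apply]

theorem cjE_apply (e : W ≃ₗ[F] W') (y : W ≃ₗ[F] W) (v : W') : cjE e y v = e (y (e.symm v)) := rfl

theorem IsSc.cjE_iff (e : W ≃ₗ[F] W') (y : W ≃ₗ[F] W) : IsSc F (⇑(cjE e y)) ↔ IsSc F (⇑y) := by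
  constructor
  · rintro ⟨c, hc⟩
    refine ⟨c, fun v => ?_⟩
    have h1 := hc (e v)
    rw [cjE_apply, e.symm_apply_apply, ← map_smul] at h1
    exact e.injective h1
  · rintro ⟨c, hc⟩
    refine ⟨c, fun v => ?_⟩
    rw [cjE_apply, hc, map_smul, e.apply_symm_apply]

theorem SGood.transport {s : ℕ} {Y : Subgroup (W ≃ₗ[F] W)} (hG : SGood s Y) (e : W ≃ₗ[F] W') :
    SGood s (Y.map (cjE e)) := by
  constructor
  · intro N hN hn hp n hnN
    have key := hG.core (N.comap (cjE e) ⊓ Y) inf_le_right ?_ ?_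
    · obtain ⟨y, hy, rfl⟩ := hN hnN
      rw [IsSc.cjE_iff]
      exact key y ⟨hnN, hy⟩
    · rintro y hy m ⟨hm, hmY⟩
      refine ⟨?_, Y.mul_mem (Y.mul_mem hy hmY) (Y.inv_mem hy)⟩
      have h1 := hn _ ⟨y, hy, rfl⟩ _ hm
      have h2 : cjE e (y * m * y⁻¹) ∈ N := by
        rw [map_mul, map_mul, map_inv]
        exact h1
      exact h2
    · rintro r ⟨hr, -⟩
      obtain ⟨k, hk, h1⟩ := hp _ hr
      refine ⟨k, hk, ?_⟩
      rw [← map_pow, IsSc.cjE_iff] at h1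
      exact h1
  · intro g hg
    have h1 := hG.lin (cjE e.symm g) ?_
    · obtain ⟨c, hc⟩ := h1
      refine ⟨c, fun v => ?_⟩
      have h2 := hc (e.symm v)
      rw [cjE_apply, LinearEquiv.symm_symm, e.apply_symm_apply, ← map_smul] at h2
      exact e.symm.injective h2
    · intro y hy
      obtain ⟨c, hc⟩ := hg _ ⟨y, hy, rfl⟩
      refine ⟨c, fun v => ?_⟩
      have h2 := hc (e v)
      rw [cjE_apply, cjE_apply, e.symm_apply_apply] at h2
      rw [cjE_apply, cjE_apply, LinearEquiv.symm_symm, h2, map_smul, e.symm_apply_apply]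

/-- conjugation of permutations -/
theorem SemiGood.transport {Y : Subgroup (W ≃ₗ[F] W)} {φ : F ≃+* F} (hS : SemiGood Y φ) (e : W ≃ₗ[F] W') :
    SemiGood (Y.map (cjE e)) φ := by
  intro g hg h
  let g' : Equiv.Perm W := (e.toEquiv.trans g).trans e.symm.toEquiv
  have hg' : ∀ v, g' v = e.symm (g (e v)) := fun _ => rfl
  have h1 := hS g' ⟨fun u v => by rw [hg', hg', hg', map_add, hg.add, map_add],
    fun a v => by rw [hg', hg', map_smul, hg.smul, map_smul]⟩ ?_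
  · obtain ⟨c, hc⟩ := h1
    refine ⟨c, fun v => ?_⟩
    have h2 := hc (e.symm v)
    rw [hg', e.apply_symm_apply, ← map_smul] at h2
    exact e.symm.injective h2
  · intro y hy
    obtain ⟨c, hc⟩ := h _ ⟨y, hy, rfl⟩
    refine ⟨c, fun v => ?_⟩
    have h2 := hc (e v)
    rw [cjE_apply, cjE_apply, e.symm_apply_apply] at h2
    rw [hg', hg', h2, map_smul, e.symm_apply_apply]

end Defs

/-! ### The section lemma -/

section Section

variable {F : Type u} {W : Type v} [Field F] [AddCommGroup W] [Module F W]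

/-- **The section lemma**, general form: `E` acts on `W` (through `ρ`) and maps to `K` (through `a`). -/
theorem section_scalar {E K : Type*} [Group E] [Group K] [Finite K] {s : ℕ} (hs : s.Prime) (a : E →* K)
    (ha : a.range ≠ ⊤) (ρ : E →* (W ≃ₗ[F] W)) (hker : ∀ z ∈ a.ker, IsSc F (⇑(ρ z))) {x : MulAut K} (hPC : PC s x)
    {g : Equiv.Perm W} (hx : ∀ e : E, ∃ e' : E, x (a e) = a e' ∧ ∀ v, ρ e' (g v) = g (ρ e v))
    {Y : Subgroup (W ≃ₗ[F] W)} (hY : ∀ y ∈ Y, ∃ e, ρ e = y) (hYn : ∀ e, ∀ y ∈ Y, ρ e * y * (ρ e)⁻¹ ∈ Y)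
    (hG : SGood s Y) {φ : F ≃+* F} (hg : Semi φ g) (hS : SemiGood Y φ) : IsSc F (⇑g) := by
  have hinv : ∀ m ∈ a.range, x m ∈ a.range := by
    rintro _ ⟨e, rfl⟩
    obtain ⟨e', h1, -⟩ := hx e
    exact ⟨e', h1.symm⟩
  have key := hPC a.range ha hinv
  set C := coreIn s a.range with hC
  have hCc : (Nat.card C).Coprime s := coreIn_coprime _
  refine hG.scalar hS (R := (C.comap a).map ρ) ?_ ?_ ?_ hg ?_
  · rintro _ ⟨e, -, rfl⟩ y hy
    exact hYn e y hy
  · rintro y hy _ ⟨e, he, rfl⟩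
    obtain ⟨f, rfl⟩ := hY y hy
    refine ⟨f * e * f⁻¹, ?_, by rw [map_mul, map_mul, map_inv]⟩
    rw [SetLike.mem_coe, mem_comap, map_mul, map_mul, map_inv]
    exact coreIn_conj_mem ⟨f, rfl⟩ he
  · rintro _ ⟨e, he, rfl⟩
    refine ⟨Nat.card C, fun hd => ?_, ?_⟩
    · exact hs.one_lt.ne' (Nat.Coprime.eq_one_of_dvd hCc.symm hd)
    · rw [← map_pow]
      apply hker
      rw [MonoidHom.mem_ker, map_pow]
      have h1 : (⟨a e, he⟩ : C) ^ Nat.card C = 1 := pow_card_eq_one'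
      exact congrArg Subtype.val h1
  · intro y hy
    obtain ⟨e, rfl⟩ := hY y hy
    obtain ⟨e', h1, h2⟩ := hx e
    refine ⟨ρ (e⁻¹ * e'), ⟨e⁻¹ * e', ?_, rfl⟩, fun v => ?_⟩
    · rw [SetLike.mem_coe, mem_comap, map_mul, map_inv, ← h1]
      exact key _ ⟨e, rfl⟩
    · rw [← h2]
      have h3 : ρ e' = ρ e * ρ (e⁻¹ * e') := by rw [← map_mul, mul_inv_cancel_left]
      rw [h3]
      rfl

end Section

/-! ### Sections of `V` -/

section Sub

variable {F : Type u} {V : Type w} {W : Type v} [Field F] [AddCommGroup V] [Module F V] [AddCommGroup W] [Module F W]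

/-- `h` stabilises `B` and induces `T` on the section `W` (through `p`) -/
def Ind (B : Submodule F V) (p : B →ₗ[F] W) (h : V → V) (T : W → W) : Prop :=
  (∀ v, h v ∈ B ↔ v ∈ B) ∧ ∀ b b' : B, (b' : V) = h b → p b' = T (p b)

variable {B : Submodule F V} {p : B →ₗ[F] W}

theorem Ind.apply {h : V → V} {T : W → W} (hT : Ind B p h T) (b : B) :
    p ⟨h b, (hT.1 b).2 b.2⟩ = T (p b) := hT.2 b _ rfl

/-- the group of the pairs `(h, T)` -/
def indG (Γ : Subgroup (V ≃ₗ[F] V)) (B : Submodule F V) (p : B →ₗ[F] W) : Subgroup (↥Γ × (W ≃ₗ[F] W)) where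
  carrier := {e | Ind B p (⇑e.1.1) (⇑e.2)}
  mul_mem' := by
    rintro ⟨a, T⟩ ⟨b, S⟩ ha hb
    refine ⟨fun v => ?_, fun c c' hc => ?_⟩
    · exact (ha.1 (b.1 v)).trans (hb.1 v)
    · have h1 := hb.apply c
      have h2 := ha.2 ⟨b.1 c, (hb.1 c).2 c.2⟩ c' hc
      exact h2.trans (congrArg _ h1)
  one_mem' := ⟨fun _ => Iff.rfl, fun _ _ h => congrArg p (Subtype.ext h)⟩
  inv_mem' := by
    rintro ⟨a, T⟩ ha
    have hi : ∀ v, a.1 ((a⁻¹).1 v) = v := fun v => a.1.apply_symm_apply v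
    have h0 : ∀ v, (a⁻¹).1 v ∈ B ↔ v ∈ B := by
      intro v
      rw [← ha.1, hi]
    refine ⟨h0, fun c c' hc => ?_⟩
    have h1 := ha.2 c' c (by
      have h2 : (c' : V) = (a⁻¹).1 c := hc
      rw [h2]
      exact (hi _).symm)
    change p c' = T.symm (p c)
    rw [h1]
    exact (T.symm_apply_apply _).symm

theorem mem_indG {Γ : Subgroup (V ≃ₗ[F] V)} {e : ↥Γ × (W ≃ₗ[F] W)} :
    e ∈ indG Γ B p ↔ Ind B p (⇑e.1.1) (⇑e.2) := Iff.rfl

/-- it is enough to induce generators of `Y` -/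
theorem ind_of_closure {Γ : Subgroup (V ≃ₗ[F] V)} {S : Set (W ≃ₗ[F] W)} (hS : ∀ y ∈ S, ∃ h ∈ Γ, Ind B p (⇑h) (⇑y)) :
    ∀ y ∈ closure S, ∃ h ∈ Γ, Ind B p (⇑h) (⇑y) := by
  have h1 : closure S ≤ (indG Γ B p).map (MonoidHom.snd _ _) := by
    rw [closure_le]
    intro y hy
    obtain ⟨h, hh, hI⟩ := hS y hy
    exact ⟨(⟨h, hh⟩, y), hI, rfl⟩
  intro y hy
  obtain ⟨⟨h, T⟩, hI, rfl⟩ := h1 hy
  exact ⟨h.1, h.2, hI⟩

/-- `T` is determined by `h` -/
theorem Ind.unique (hp : Function.Surjective p) {h : V → V} {T S : W → W} (hT : Ind B p h T) (hS : Ind B p h S)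
    (w : W) : T w = S w := by
  obtain ⟨b, rfl⟩ := hp w
  rw [← hT.apply, ← hS.apply]

/-- the map induced by `g` -/
theorem exists_ind [Finite V] (hp : Function.Surjective p) {g : Equiv.Perm V} {φ : F ≃+* F} (hg : Semi φ g)
    (hB : ∀ v ∈ B, g v ∈ B) (hker : ∀ b b' : B, (b' : V) = g b → p b = 0 → p b' = 0) :
    ∃ gW : Equiv.Perm W, Semi φ gW ∧ Ind B p (⇑g) (⇑gW) := by
  classical
  have hBi : ∀ v, g v ∈ B ↔ v ∈ B := H952.Rc.inv_iff hB
  have hg0 : g 0 = 0 := hg.zero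
  have hneg : ∀ v, g (-v) = -g v := by
    intro v
    have := hg.add v (-v)
    rw [add_neg_cancel, hg0] at this
    exact (neg_eq_of_add_eq_zero_right this.symm).symm
  have hsub : ∀ u v, g (u - v) = g u - g v := by
    intro u v
    rw [sub_eq_add_neg, hg.add, hneg, ← sub_eq_add_neg]
  let gB : B → B := fun b => ⟨g b, hB b b.2⟩
  have hgB : ∀ b : B, (gB b : V) = g b := fun _ => rfl
  have hwd : ∀ b b' : B, p b = p b' → p (gB b) = p (gB b') := by
    intro b b' h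
    have h1 := hker (b - b') (gB b - gB b') (by
      rw [Submodule.coe_sub, Submodule.coe_sub, hsub]) (by rw [map_sub, h, sub_self])
    rw [map_sub, sub_eq_zero] at h1
    exact h1
  have hpinv : ∀ w, p (Function.surjInv hp w) = w := Function.surjInv_eq hp
  let f : W → W := fun w => p (gB (Function.surjInv hp w))
  have hf : ∀ b : B, f (p b) = p (gB b) := fun b => hwd _ _ (hpinv _)
  have hfs : Function.Surjective f := by
    intro w
    obtain ⟨b, rfl⟩ := hp w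
    obtain ⟨v, hv⟩ := g.surjective (b : V)
    have hvB : v ∈ B := (hBi v).1 (by rw [hv]; exact b.2)
    refine ⟨p ⟨v, hvB⟩, ?_⟩
    rw [hf]
    congr 1
    exact Subtype.ext hv
  have hWf : Finite W := by
    have : Finite B := inferInstance
    exact Finite.of_surjective _ hp
  have hfb : Function.Bijective f := Finite.surjective_iff_bijective.1 hfs
  refine ⟨Equiv.ofBijective f hfb, ⟨?_, ?_⟩, hBi, ?_⟩
  · intro w w'
    obtain ⟨b, rfl⟩ := hp w
    obtain ⟨b', rfl⟩ := hp w'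
    change f (p b + p b') = f (p b) + f (p b')
    rw [← map_add, hf, hf, hf, ← map_add]
    congr 1
    apply Subtype.ext
    rw [hgB, Submodule.coe_add, Submodule.coe_add, hgB, hgB, hg.add]
  · intro c w
    obtain ⟨b, rfl⟩ := hp w
    change f (c • p b) = φ c • f (p b)
    rw [← map_smul, hf, hf, ← map_smul]
    congr 1
    apply Subtype.ext
    rw [hgB, Submodule.coe_smul, Submodule.coe_smul, hgB, hg.smul]
  · intro b b' h
    change p b' = f (p b)
    rw [hf]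
    congr 1
    exact Subtype.ext h

/-- **The section lemma.** -/
theorem section_lemma [Finite V] {Γ : Subgroup (V ≃ₗ[F] V)} {s : ℕ} (hs : s.Prime) {x : MulAut (↥Γ ⧸ center ↥Γ)}
    (hPC : PC s x) (hZ : ∀ z ∈ center ↥Γ, IsSc F (⇑z.1)) {g : Equiv.Perm V} {φ : F ≃+* F} (hg : Semi φ g)
    (hx : H952.Rc.Comp x g) (hp : Function.Surjective p) (hB : ∀ v ∈ B, g v ∈ B)
    (hker : ∀ b b' : B, (b' : V) = g b → p b = 0 → p b' = 0)
    (hne : ∃ h ∈ Γ, ∀ T : W ≃ₗ[F] W, ¬ Ind B p (⇑h) (⇑T))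
    {Y : Subgroup (W ≃ₗ[F] W)} (hY : ∀ y ∈ Y, ∃ h ∈ Γ, Ind B p (⇑h) (⇑y))
    (hYn : ∀ h ∈ Γ, ∀ T : W ≃ₗ[F] W, Ind B p (⇑h) (⇑T) → ∀ y ∈ Y, T * y * T⁻¹ ∈ Y)
    (hG : SGood s Y) (hS : SemiGood Y φ) : ∃ c : F, ∀ b b' : B, (b' : V) = g b → p b' = c • p b := by
  have : Finite (V ≃ₗ[F] V) := Finite.of_injective (fun h : V ≃ₗ[F] V => (h : V → V)) DFunLike.coe_injective
  obtain ⟨gW, hgW, hgI⟩ := exists_ind hp hg hB hker
  -- centers
  have hZI : ∀ z ∈ center ↥Γ, ∀ T : W ≃ₗ[F] W, Ind B p (⇑z.1) (⇑T) → IsSc F (⇑T) := by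
    intro z hz T hT
    obtain ⟨c, hc⟩ := hZ z hz
    refine ⟨c, fun w => ?_⟩
    obtain ⟨b, rfl⟩ := hp w
    rw [← hT.apply, ← map_smul]
    congr 1
    exact Subtype.ext (hc b)
  have hZE : ∀ z ∈ center ↥Γ, ∃ T : W ≃ₗ[F] W, Ind B p (⇑z.1) (⇑T) := by
    intro z hz
    obtain ⟨c, hc⟩ := hZ z hz
    by_cases hc0 : c = 0
    · -- `V` is trivial
      have hV : ∀ v : V, v = 0 := by
        intro v
        have h1 := hc v
        rw [hc0, zero_smul] at h1
        exact (map_eq_zero_iff z.1 z.1.injective).1 h1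
      refine ⟨LinearEquiv.refl F W, fun v => by rw [hV (z.1 v), hV v], fun b b' h => ?_⟩
      have h2 : b' = b := Subtype.ext ((hV _).trans (hV _).symm)
      rw [h2]
      rfl
    · refine ⟨LinearEquiv.smulOfNeZero F W c hc0, fun v => ?_, fun b b' h => ?_⟩
      · rw [hc]
        exact Submodule.smul_mem_iff B hc0
      · change p b' = c • p b
        rw [← map_smul]
        congr 1
        exact Subtype.ext (h.trans (hc b))
  let E := indG Γ B p
  let a : E →* (↥Γ ⧸ center ↥Γ) := (QuotientGroup.mk' (center ↥Γ)).comp ((MonoidHom.fst _ _).comp E.subtype)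
  let ρ : E →* (W ≃ₗ[F] W) := (MonoidHom.snd _ _).comp E.subtype
  have ha : ∀ e : E, a e = QuotientGroup.mk' (center ↥Γ) e.1.1 := fun _ => rfl
  have hρ : ∀ e : E, ρ e = e.1.2 := fun _ => rfl
  have hmem : ∀ e : E, Ind B p (⇑e.1.1.1) (⇑e.1.2) := fun e => e.2
  have hsc : IsSc F (⇑gW) := by
    refine section_scalar hs a ?_ ρ ?_ hPC ?_ ?_ ?_ hG hgW hS
    · -- proper
      intro htop
      obtain ⟨h, hh, hT⟩ := hne
      have h1 : QuotientGroup.mk' (center ↥Γ) ⟨h, hh⟩ ∈ a.range := by rw [htop]; exact mem_top _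
      obtain ⟨e, he⟩ := h1
      rw [ha] at he
      have h2 : e.1.1⁻¹ * ⟨h, hh⟩ ∈ center ↥Γ := QuotientGroup.eq.1 he
      obtain ⟨T, hT'⟩ := hZE _ h2
      have h3 : (⟨(e.1.1⁻¹ * ⟨h, hh⟩ : ↥Γ), T⟩ : ↥Γ × (W ≃ₗ[F] W)) ∈ E := hT'
      have h4 := mul_mem e.2 h3
      have h5 : e.1 * (⟨(e.1.1⁻¹ * ⟨h, hh⟩ : ↥Γ), T⟩ : ↥Γ × (W ≃ₗ[F] W)) = (⟨h, hh⟩, e.1.2 * T) := by
        ext1
        · change e.1.1 * (e.1.1⁻¹ * ⟨h, hh⟩) = _
          rw [mul_inv_cancel_left]
        · rfl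
      rw [h5] at h4
      exact hT _ h4
    · intro z hz
      have h1 : z.1.1 ∈ center ↥Γ := (QuotientGroup.eq_one_iff (z.1.1 : ↥Γ)).1 (MonoidHom.mem_ker.1 hz)
      exact hZI _ h1 _ (hmem z)
    · intro e
      obtain ⟨h', h1, h2⟩ := hx e.1.1
      -- the map induced by `h'`
      have hBi := hgI.1
      have h3 : ∀ v, h'.1 v ∈ B ↔ v ∈ B := by
        intro v
        obtain ⟨w, rfl⟩ := g.surjective v
        rw [h1, hBi, (hmem e).1, hBi]
      let T : W ≃ₗ[F] W :=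
        { toFun := fun w => gW (e.1.2 (gW.symm w))
          invFun := fun w => gW (e.1.2.symm (gW.symm w))
          map_add' := by
            intro u v
            have hs : gW.symm (u + v) = gW.symm u + gW.symm v := by
              apply gW.injective
              rw [hgW.add, gW.apply_symm_apply, gW.apply_symm_apply, gW.apply_symm_apply]
            rw [hs, map_add, hgW.add]
          map_smul' := by
            intro c v
            have hs : gW.symm (c • v) = φ.symm c • gW.symm v := by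
              apply gW.injective
              rw [hgW.smul, gW.apply_symm_apply, gW.apply_symm_apply, φ.apply_symm_apply]
            rw [hs, map_smul, hgW.smul, φ.apply_symm_apply, RingHom.id_apply]
          left_inv := fun w => by
            change gW (e.1.2.symm (gW.symm (gW (e.1.2 (gW.symm w))))) = w
            rw [gW.symm_apply_apply, LinearEquiv.symm_apply_apply, gW.apply_symm_apply]
          right_inv := fun w => by
            change gW (e.1.2 (gW.symm (gW (e.1.2.symm (gW.symm w))))) = w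
            rw [gW.symm_apply_apply, LinearEquiv.apply_symm_apply, gW.apply_symm_apply] }
      have hTa : ∀ w, T w = gW (e.1.2 (gW.symm w)) := fun _ => rfl
      have hT : Ind B p (⇑h'.1) (⇑T) := by
        refine ⟨h3, fun b b' hb => ?_⟩
        obtain ⟨v, hv⟩ := g.surjective (b : V)
        have hvB : v ∈ B := (hBi v).1 (by rw [hv]; exact b.2)
        have e1 : p b = gW (p ⟨v, hvB⟩) := hgI.2 ⟨v, hvB⟩ b hv.symm
        have e2 := (hmem e).apply ⟨v, hvB⟩
        have e3 := hgI.2 ⟨e.1.1.1 v, ((hmem e).1 v).2 hvB⟩ b' (by rw [hb, ← hv, h1])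
        rw [hTa, e1, gW.symm_apply_apply, e3]
        exact congrArg _ e2
      refine ⟨⟨(h', T), hT⟩, h2, fun v => ?_⟩
      change T (gW v) = gW (e.1.2 v)
      rw [hTa, gW.symm_apply_apply]
    · intro y hy
      obtain ⟨h, hh, hI⟩ := hY y hy
      exact ⟨⟨(⟨h, hh⟩, y), hI⟩, rfl⟩
    · intro e y hy
      exact hYn e.1.1.1 e.1.1.2 e.1.2 (hmem e) y hy
  obtain ⟨c, hc⟩ := hsc
  refine ⟨c, fun b b' h => ?_⟩
  rw [hgI.2 b b' h, hc]

end Sub

end Cfsg.Agent.H809.Sec
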